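import Groth.Agent.SepAffineGen.Glue
import Groth.Agent.Grpd.InvAffine
import Mathlib

/-!
Finitely many points with Noetherian one dimensional local rings of a separated scheme lie in an
affine open.
-/

set_option autoImplicit false
set_option backward.isDefEq.respectTransparency false

universe u

open CategoryTheory AlgebraicGeometry TopologicalSpace Opposite
open Groth.Agent.QC (resO resO_resO)

noncomputable section

namespace Groth.Agent.SepAffineGen

open Groth.Agent.SepAffine (IsMaxPoint isMaxPoint_of_specializes exists_affine_extend exists_affine_le exists_affine_of_two)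

variable {X : Scheme.{u}}

variable [X.IsSeparated]

/-- Finitely many points with local rings of dimension at most one lie in an affine open. -/
theorem exists_affine_of_dim_le_one {E : Set X} (hE : E.Finite)
    (hnoeth : ∀ x ∈ E, IsNoetherianRing (X.presheaf.stalk x))
    (hdim : ∀ x ∈ E, ringKrullDim (X.presheaf.stalk x) ≤ 1) :
    ∃ D : X.Opens, IsAffineOpen D ∧ E ⊆ D := by
  classical
  induction E, hE using Set.Finite.induction_on with
  | empty => exact ⟨⊥, isAffineOpen_bot X, Set.empty_subset _⟩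
  | @insert z E _ hE ih =>
    obtain ⟨U₀, hU₀, hEU₀⟩ := ih (fun x hx => hnoeth x (Or.inr hx)) fun x hx => hdim x (Or.inr hx)
    let H : Set X := {b | IsMaxPoint b ∧ ∃ x ∈ insert z E, b ⤳ x}
    have hH : H.Finite := (((hE.insert z).biUnion fun x hx => have := hnoeth x hx; finite_generalisations (hdim x hx)).union (hE.insert z)).subset
      fun b ⟨_, x, hx, hbx⟩ => by
        by_cases h : b = x
        · exact Or.inr (h ▸ hx)
        · exact Or.inl (Set.mem_biUnion hx ⟨hbx, h⟩)
    have hHmax : ∀ b ∈ H, IsMaxPoint b := fun b hb => hb.1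
    have hgenH : ∀ x ∈ insert z E, ∀ b, b ⤳ x → b ≠ x → b ∈ H := fun x hx b hbx hne =>
      ⟨isMaxPoint_of_specializes (hdim x hx) hbx hne, x, hx, hbx⟩
    obtain ⟨U₁, hU₁, h01, hHU₁, -⟩ := exists_affine_extend hU₀ hH hHmax ⊤ le_top (fun _ _ => trivial)
    by_cases hzU₁ : z ∈ U₁
    · exact ⟨U₁, hU₁, Set.insert_subset hzU₁ (hEU₀.trans h01)⟩
    obtain ⟨A, hA, hzA, -⟩ := exists_isAffineOpen_mem_and_subset (x := z) (U := (⊤ : X.Opens)) trivial
    obtain ⟨Wz, hWz, hAW, hHW, -⟩ := exists_affine_extend hA hH hHmax ⊤ le_top (fun _ _ => trivial)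
    let Y : Finset X := hE.toFinset.filter fun x => x ∉ Wz
    have hYmem : ∀ {y}, y ∈ Y ↔ y ∈ E ∧ y ∉ Wz := fun {y} => by simp [Y]
    let P : Set X := {x | x ∈ insert z E ∪ H ∧ x ∈ Wz}
    have hPfin : P.Finite := ((hE.insert z).union hH).subset fun x hx => hx.1
    obtain ⟨O, i, hYO, hiaff, hPi, hiW, -⟩ := exists_pole_glue hWz Y
      (fun y hy => hnoeth y (Or.inr (hYmem.1 hy).1))
      (fun y hy => hdim y (Or.inr (hYmem.1 hy).1)) (fun y hy => (hYmem.1 hy).2)
      (fun y hy b hb hne => hHW (hgenH y (Or.inr (hYmem.1 hy).1) b hb hne)) ⊤ (fun _ _ => trivial) hPfin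
      (fun x hx => hx.2)
    have hzi : z ∈ X.basicOpen i := hPi ⟨Or.inl (Or.inl rfl), hAW hzA⟩
    have hEHO : E ∪ H ⊆ O := by
      rintro x (hx | hx)
      · by_cases hxW : x ∈ Wz
        · exact X.basicOpen_le i (hPi ⟨Or.inl (Or.inr hx), hxW⟩)
        · exact hYO x (hYmem.2 ⟨hx, hxW⟩)
      · exact X.basicOpen_le i (hPi ⟨Or.inr hx, hHW hx⟩)
    obtain ⟨U₂, hU₂, hEHU₂, hU₂₁, hU₂O⟩ := exists_affine_le hU₁ O (hE.union hH)
      (Set.union_subset (hEU₀.trans h01) hHU₁) hEHO
    have hzU₂ : z ∉ U₂ := fun h => hzU₁ (hU₂₁ h)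
    obtain ⟨O₂, F, hzO₂, hFaff, hEF, hFU₂, hO₂⟩ := exists_pole_glue hU₂ {z}
      (fun y hy => by rw [Finset.mem_singleton.1 hy]; exact hnoeth z (Set.mem_insert _ _))
      (fun y hy => by rw [Finset.mem_singleton.1 hy]; exact hdim z (Set.mem_insert _ _))
      (fun y hy => by rw [Finset.mem_singleton.1 hy]; exact hzU₂)
      (fun y hy b hb hne => by rw [Finset.mem_singleton.1 hy] at hb hne; exact hEHU₂ (Or.inr (hgenH z (Set.mem_insert _ _) b hb hne)))
      (X.basicOpen i) (fun y hy => by rw [Finset.mem_singleton.1 hy]; exact hzi) hE (fun x hx => hEHU₂ (Or.inl hx))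
    let K : X.Opens := X.basicOpen i ⊔ U₂
    have hKO : K ≤ O := sup_le (X.basicOpen_le i) hU₂O
    have hO₂K : O₂ ≤ K := hO₂.trans (sup_le (hFU₂.trans le_sup_right) le_sup_left)
    have hKc : IsCompact (K : Set X) := hiaff.isCompact.union hU₂.isCompact
    obtain ⟨h', hh'O₂, hzh'⟩ := hiaff.exists_basicOpen_le (⟨z, hzO₂ z (Finset.mem_singleton_self z)⟩ : O₂) hzi
    let iK := resO X hKO i
    have hiK : X.basicOpen iK = X.basicOpen i :=
      (Scheme.basicOpen_res X i (homOfLE hKO).op).trans (inf_eq_right.2 le_sup_left)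
    obtain ⟨n, g, hg⟩ := exists_eq_pow_mul_of_isCompact_of_isQuasiSeparated X K hKc
      (isQuasiSeparated_univ.of_subset (Set.subset_univ _)) iK
      (resO X hiK.le h')
    let G := resO X hO₂K (iK * g)
    have hG : X.basicOpen G = X.basicOpen h' := by
      have h1 : X.basicOpen iK ⊓ X.basicOpen g = X.basicOpen h' := by
        have hg' : resO X (X.basicOpen_le iK) g = resO X (X.basicOpen_le iK) iK ^ n * resO X hiK.le h' := hg
        have e := congrArg X.basicOpen hg'
        have e1 : X.basicOpen iK ⊓ X.basicOpen g = X.basicOpen (resO X hiK.le h') := by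
          refine ((Scheme.basicOpen_res X g (homOfLE (X.basicOpen_le iK)).op).symm.trans e).trans ?_
          rw [Scheme.basicOpen_mul]
          refine inf_eq_right.2 ((X.basicOpen_le _).trans (ge_of_eq ?_))
          refine Scheme.basicOpen_of_isUnit X (IsUnit.pow _ ?_)
          exact RingedSpace.isUnit_res_basicOpen X.toLocallyRingedSpace.toRingedSpace iK
        rw [e1, show X.basicOpen (resO X hiK.le h') = X.basicOpen iK ⊓ X.basicOpen h' from
          Scheme.basicOpen_res X h' (homOfLE hiK.le).op, hiK]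
        exact inf_eq_right.2 (X.basicOpen_le h')
      show X.basicOpen (resO X hO₂K (iK * g)) = _
      rw [show X.basicOpen (resO X hO₂K (iK * g)) = O₂ ⊓ X.basicOpen (iK * g) from
        Scheme.basicOpen_res X _ (homOfLE hO₂K).op, Scheme.basicOpen_mul, h1]
      exact inf_eq_right.2 hh'O₂
    refine exists_affine_of_two F G hFaff (hG ▸ hiaff.basicOpen h') (hE.insert z) ?_
    rintro x (rfl | hx)
    · exact Or.inr (hG ▸ hzh')
    · exact Or.inl (hEF hx)

end Groth.Agent.SepAffineGen
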