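import Groth.Agent.SepAffine.Main
import Mathlib

/-!
Points with noetherian one dimensional local rings on a separated scheme: generalisations and
affine neighbourhoods (no Noetherian hypothesis on the scheme).
-/

set_option autoImplicit false

universe u

open CategoryTheory AlgebraicGeometry TopologicalSpace

namespace Groth.Agent.SepAffineGen

open Groth.Agent.SepAffine (IsMaxPoint isMaxPoint_of_specializes exists_mem_avoid)

variable {X : Scheme.{u}}

theorem finite_generalisations {y : X} [IsNoetherianRing (X.presheaf.stalk y)]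
    (hy : ringKrullDim (X.presheaf.stalk y) ≤ 1) :
    {b : X | b ⤳ y ∧ b ≠ y}.Finite := by
  let R := X.presheaf.stalk y
  refine (((minimalPrimes.finite_of_isNoetherianRing R).preimage (f := PrimeSpectrum.asIdeal)
    fun _ _ _ _ h => PrimeSpectrum.ext h).image (X.fromSpecStalk y)).subset fun b ⟨hb, hne⟩ => ?_
  obtain ⟨q, hq⟩ : b ∈ Set.range (X.fromSpecStalk y) := by
    rw [Scheme.range_fromSpecStalk]; exact hb
  refine ⟨q, ?_, hq⟩
  refine ⟨⟨q.2, bot_le⟩, fun r hr hle => ?_⟩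
  let r' : PrimeSpectrum R := ⟨r, hr.1⟩
  have h1 : (X.fromSpecStalk y) r' ⤳ b := hq ▸
    Specializes.map ((PrimeSpectrum.le_iff_specializes r' q).1 hle) (X.fromSpecStalk y).continuous
  have h2 : r' = q := (X.fromSpecStalk y).isEmbedding.injective
    ((isMaxPoint_of_specializes hy hb hne _ h1).trans hq.symm)
  exact (congrArg PrimeSpectrum.asIdeal h2).ge

/-- Near a point outside an affine open containing its proper generalisations the open is principal. -/
theorem exists_principal_nbhd [X.IsSeparated] {U : X.Opens} (hU : IsAffineOpen U) {y : X}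
    [IsNoetherianRing (X.presheaf.stalk y)]
    (hy : ringKrullDim (X.presheaf.stalk y) ≤ 1) (hyU : y ∉ U)
    (hgen : ∀ b, b ⤳ y → b ≠ y → b ∈ U) (O : X.Opens) (hyO : y ∈ O) :
    ∃ (W : X.Opens) (f : Γ(X, W)), IsAffineOpen W ∧ y ∈ W ∧ W ≤ O ∧ W ⊓ U = X.basicOpen f := by
  classical
  obtain ⟨A, hA, hyA, hAO⟩ := exists_isAffineOpen_mem_and_subset (x := y) (U := O) hyO
  haveI := hA.isOpenImmersion_fromSpec
  obtain ⟨I, hI⟩ := (PrimeSpectrum.isClosed_iff_zeroLocus_ideal _).1 ((hA.fromSpec ⁻¹ᵁ U).2.isClosed_compl)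
  have hmem : ∀ q : PrimeSpectrum Γ(X, A), I ≤ q.asIdeal ↔ hA.fromSpec q ∉ U := fun q => by
    change q ∈ PrimeSpectrum.zeroLocus (I : Set Γ(X, A)) ↔ _
    rw [← hI]; rfl
  have hfin := (finite_generalisations hy).to_subtype
  haveI := Fintype.ofFinite {b : X | b ⤳ y ∧ b ≠ y}
  let T : Finset (Ideal Γ(X, A)) := Finset.univ.image
    fun b : {b : X | b ⤳ y ∧ b ≠ y} => (hA.primeIdealOf ⟨b.1, b.2.1.mem_open A.2 hyA⟩).asIdeal
  obtain ⟨f, hfI, hfT⟩ := exists_mem_avoid I T (fun q hq => by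
    obtain ⟨b, -, rfl⟩ := Finset.mem_image.1 hq
    infer_instance) fun q hq hle => by
    obtain ⟨b, -, rfl⟩ := Finset.mem_image.1 hq
    have := (hmem _).1 hle
    rw [hA.fromSpec_primeIdealOf] at this
    exact this (hgen b.1 b.2.1 b.2.2)
  have hfU : X.basicOpen f ≤ U := fun w hw => by
    have hwA := X.basicOpen_le f hw
    by_contra hwU
    exact (UfdExtend.mem_basicOpen_iff hA hwA f).1 hw
      ((hmem _).2 (by rwa [hA.fromSpec_primeIdealOf]) hfI)
  have hUA : IsAffineOpen (U ⊓ A) := hU.inf hA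
  have : CompactSpace (U ⊓ A).toScheme := isCompact_iff_compactSpace.1 hUA.isCompact
  have : QuasiCompact (U ⊓ A).ι := quasiCompact_of_compactSpace _
  let F : Set (U ⊓ A).toScheme := (U ⊓ A).ι ⁻¹' (X.basicOpen f : Set X)ᶜ
  have hycl : y ∉ closure ((U ⊓ A).ι '' F) := fun hcl => by
    obtain ⟨z, hz, hzy⟩ := SubDescent.exists_specializes_of_mem_closure_image (U ⊓ A).ι
      ((X.basicOpen f).2.isClosed_compl.preimage (U ⊓ A).ι.continuous) hcl
    have hzmem : (U ⊓ A).ι z ∈ U ⊓ A := z.2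
    have hne : (U ⊓ A).ι z ≠ y := fun h => hyU (h ▸ hzmem.1)
    refine hz ((UfdExtend.mem_basicOpen_iff hA hzmem.2 f).2 fun hfz => ?_)
    exact hfT _ (Finset.mem_image.2 ⟨⟨_, hzy, hne⟩, Finset.mem_univ _, rfl⟩) hfz
  obtain ⟨t, htle, hyt⟩ := hA.exists_basicOpen_le
    (V := ⟨(closure ((U ⊓ A).ι '' F))ᶜ, isClosed_closure.isOpen_compl⟩) ⟨y, hycl⟩ hyA
  refine ⟨X.basicOpen t, QC.resO X (X.basicOpen_le t) f, hA.basicOpen t, hyt,
    (X.basicOpen_le t).trans hAO, ?_⟩
  rw [show X.basicOpen (QC.resO X (X.basicOpen_le t) f) = X.basicOpen t ⊓ X.basicOpen f from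
    Scheme.basicOpen_res X f (homOfLE (X.basicOpen_le t)).op]
  refine le_antisymm (fun w hw => ⟨hw.1, ?_⟩) fun w hw => ⟨hw.1, hfU hw.2⟩
  by_contra hwf
  exact htle hw.1 (subset_closure ⟨⟨w, hw.2, X.basicOpen_le t hw.1⟩, hwf, rfl⟩)

end Groth.Agent.SepAffineGen
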