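import Groth.Agent.AmpleDimOne.Pole
import Mathlib

/-!
Poles at a point with Noetherian one dimensional local ring of a separated scheme
(no Noetherian hypothesis on the scheme).
-/

set_option autoImplicit false
set_option backward.isDefEq.respectTransparency false

universe u

open CategoryTheory CategoryTheory.Limits AlgebraicGeometry TopologicalSpace IsLocalRing IsDedekindDomain
open Groth.Agent.QC (resO resO_resO)
open Groth.Agent.UfdExtend (mem_basicOpen_iff)
open scoped WithZero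

noncomputable section

namespace Groth.Agent.SepAffineGen

open Groth.Agent.AmpleDimOne (mem_of_integral exists_inv_pow exists_inv_pow_mem finite_branches exists_large)

variable {X : Scheme.{u}}

variable [X.IsSeparated] {U : X.Opens}
  (hU : IsAffineOpen U) {z : X} [IsNoetherianRing (X.presheaf.stalk z)]
  (hdim : ringKrullDim (X.presheaf.stalk z) ≤ 1) (hzU : z ∉ U) {W : X.Opens} (hW : IsAffineOpen W) (hzW : z ∈ W)
  (hgen : ∀ b, b ⤳ z → b ≠ z → b ∈ U) (f : Γ(X, W)) (hf : W ⊓ U = X.basicOpen f)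

include hdim hzU hW hzW hgen hf in
omit [IsNoetherianRing (X.presheaf.stalk z)] [X.IsSeparated] in
/-- The local ring at `z` and the equation of the complement. -/
theorem germ_facts :
    X.presheaf.germ W z hzW f ∈ maximalIdeal (X.presheaf.stalk z) ∧
    (∀ q : Ideal (X.presheaf.stalk z), q.IsPrime → X.presheaf.germ W z hzW f ∈ q →
      q = maximalIdeal _) ∧
    (∀ q : Ideal (X.presheaf.stalk z), q.IsPrime → X.presheaf.germ W z hzW f ∉ q →
      q ∈ minimalPrimes (X.presheaf.stalk z)) := by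
  have hgm : X.presheaf.germ W z hzW f ∈ maximalIdeal (X.presheaf.stalk z) := fun hu => by
    exact hzU (hf.ge ((X.mem_basicOpen f z hzW).2 hu)).2
  refine ⟨hgm, fun q hq hgq => ?_, fun q hq hgq => ?_⟩
  · letI := X.presheaf.algebra_section_stalk (⟨z, hzW⟩ : W)
    haveI := hW.isLocalization_stalk ⟨z, hzW⟩
    obtain ⟨y, hy, hyq⟩ := Groth.Agent.UfdExtend.exists_point hW
      ⟨q.under Γ(X, W), inferInstance⟩
    have hfy : y ∉ X.basicOpen f := fun h => by
      have := (mem_basicOpen_iff hW hy f).1 h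
      rw [hyq] at this
      exact this hgq
    have hle : (hW.primeIdealOf ⟨y, hy⟩).asIdeal ≤ (hW.primeIdealOf ⟨z, hzW⟩).asIdeal := by
      rw [hyq]
      show q.under Γ(X, W) ≤ _
      rw [← IsLocalization.AtPrime.under_maximalIdeal (X.presheaf.stalk z) (hW.primeIdealOf ⟨z, hzW⟩).asIdeal]
      exact Ideal.comap_mono (IsLocalRing.le_maximalIdeal hq.ne_top)
    have hyz' : y ⤳ z := by
      have h1 := Specializes.map ((PrimeSpectrum.le_iff_specializes _ _).1 hle) hW.fromSpec.continuous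
      rwa [hW.fromSpec_primeIdealOf, hW.fromSpec_primeIdealOf] at h1
    have hyz : y = z := by
      by_contra hne
      exact hfy (hf.le ⟨hy, hgen y hyz' hne⟩)
    subst hyz
    rw [← IsLocalization.map_under (hW.primeIdealOf ⟨y, hy⟩).asIdeal.primeCompl (X.presheaf.stalk y) q,
      ← IsLocalization.AtPrime.map_eq_maximalIdeal (hW.primeIdealOf ⟨y, hy⟩).asIdeal (X.presheaf.stalk y)]
    congr 1
    exact (congrArg PrimeSpectrum.asIdeal hyq).symm
  · have h := Ring.krullDimLE_one_iff.1 (Ring.krullDimLE_iff.2 hdim) q hq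
    refine h.resolve_right fun hmax => hgq ?_
    rw [IsLocalRing.eq_maximalIdeal hmax]
    exact hgm

variable (S : Type u) [CommRing S] (θ : Γ(X, X.basicOpen f) →+* S)

include hU hdim hzU hW hzW hgen hf in
omit hgen in
/-- Finitely many valuations on the functions on `U` controlling the poles along one branch. -/
theorem exists_valuations [Algebra (X.presheaf.stalk z) S]
    [IsLocalization.Away (X.presheaf.germ W z hzW f) S]
    (hθ : ∀ a, θ (resO X (X.basicOpen_le f) a) =
      algebraMap (X.presheaf.stalk z) S (X.presheaf.germ W z hzW a))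
    (q : Ideal (X.presheaf.stalk z)) [q.IsPrime] (hgq : X.presheaf.germ W z hzW f ∉ q) :
    ∃ (ι : Type u) (_ : Finite ι) (v : ι → Valuation Γ(X, U) ℤᵐ⁰), (∀ i, ∃ a, 1 < v i a) ∧
      ∀ a, (∀ i, 1 < v i a) → ∃ n₀ : ℕ, ∀ n ≥ n₀, ∃ r ∈ maximalIdeal (X.presheaf.stalk z),
        θ (resO X (hf.ge.trans inf_le_right) a) ^ n * algebraMap (X.presheaf.stalk z) S r - 1 ∈
          q.map (algebraMap (X.presheaf.stalk z) S) := by
  let R := X.presheaf.stalk z
  have hgm : X.presheaf.germ W z hzW f ∈ maximalIdeal R := fun hu =>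
    hzU (hf.ge ((X.mem_basicOpen f z hzW).2 hu)).2
  let B := R ⧸ q
  haveI : IsDomain B := Ideal.Quotient.isDomain q
  haveI : IsLocalRing B := IsLocalRing.of_surjective' (Ideal.Quotient.mk q) Ideal.Quotient.mk_surjective
  haveI : IsLocalHom (Ideal.Quotient.mk q) :=
    IsLocalHom.of_surjective (Ideal.Quotient.mk q) Ideal.Quotient.mk_surjective
  haveI hdimB : Ring.KrullDimLE 1 B := Ring.krullDimLE_iff.2
    ((ringKrullDim_quotient_le q).trans hdim)
  have hB : ¬ IsField B := fun h => by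
    have hmax : q.IsMaximal := Ideal.Quotient.maximal_of_isField q h
    exact hgq (IsLocalRing.eq_maximalIdeal hmax ▸ hgm)
  let K := FractionRing B
  haveI := GlueSL.isDedekindDomain_integralClosure B K
  haveI : IsFractionRing (integralClosure B K) K :=
    integralClosure.isFractionRing_of_finite_extension K K
  haveI := finite_branches hB K
  let π : R →+* K := (algebraMap B K).comp (Ideal.Quotient.mk q)
  have hπg : IsUnit (π (X.presheaf.germ W z hzW f)) := isUnit_iff_ne_zero.2 fun h => hgq (by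
    rw [RingHom.comp_apply, map_eq_zero_iff _ (IsFractionRing.injective B K)] at h
    exact Ideal.Quotient.eq_zero_iff_mem.1 h)
  let χ : S →+* K := IsLocalization.Away.lift (X.presheaf.germ W z hzW f) hπg
  have hχ : ∀ r : R, χ (algebraMap R S r) = π r := fun r => IsLocalization.Away.lift_eq _ hπg r
  let ρ : Γ(X, U) →+* K := χ.comp (θ.comp (resO X (hf.ge.trans inf_le_right)))
  refine ⟨HeightOneSpectrum (integralClosure B K), inferInstance, fun w => (w.valuation K).comap ρ,
    fun w => ?_, fun a ha => ?_⟩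
  · by_contra hno
    push_neg at hno
    refine hzU ?_
    have hint : ∀ r : R, w.valuation K (π r) ≤ 1 := fun r =>
      w.valuation_le_one (K := K) (algebraMap B (integralClosure B K) (Ideal.Quotient.mk q r))
    have hmax : ∀ r ∈ maximalIdeal R, w.valuation K (π r) < 1 := fun r hr => by
      refine (w.valuation_lt_one_iff_mem (K := K) (algebraMap B (integralClosure B K)
        (Ideal.Quotient.mk q r))).2 ?_
      refine GlueSL.mem_jacobson_map ?_ (w.isPrime.isMaximal w.ne_bot)
      rw [IsLocalRing.jacobson_eq_maximalIdeal _ bot_ne_top]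
      exact map_nonunit (Ideal.Quotient.mk q) r hr
    have hcomp : ∀ a : Γ(X, W), χ (θ (resO X (X.basicOpen_le f) a)) = π (X.presheaf.germ W z hzW a) :=
      fun a => by rw [hθ, hχ]
    refine mem_of_integral hU hW (hW.basicOpen f) (X.basicOpen_le f) (hf.ge.trans inf_le_right) hzW
      (w.valuation K).valuationSubring (χ.comp θ)
      (fun a => by
        show w.valuation K (χ (θ _)) ≤ 1
        rw [hcomp]; exact hint _)
      (fun a => hno a) fun a => ?_
    letI := X.presheaf.algebra_section_stalk (⟨z, hzW⟩ : W)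
    haveI := hW.isLocalization_stalk ⟨z, hzW⟩
    rw [← IsLocalization.AtPrime.to_map_mem_maximal_iff (X.presheaf.stalk z)
      (hW.primeIdealOf ⟨z, hzW⟩).asIdeal a, IsLocalRing.mem_maximalIdeal]
    constructor
    · intro hnu hu
      have h1 := hmax _ hnu
      obtain ⟨b, hb⟩ := hu.exists_right_inv
      have h2 := congrArg (fun t : (w.valuation K).valuationSubring => w.valuation K (t : K)) hb
      simp only [MulMemClass.coe_mul, OneMemClass.coe_one, map_mul, map_one] at h2
      have hb1 : w.valuation K (b : K) ≤ 1 := b.2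
      have h3 : w.valuation K (χ (θ (resO X (X.basicOpen_le f) a))) < 1 := by rw [hcomp]; exact h1
      exact (mul_lt_one_of_lt_of_le h3 hb1).ne h2
    · intro hnu hu
      refine hnu ?_
      obtain ⟨b, hb⟩ := hu.exists_right_inv
      refine IsUnit.of_mul_eq_one ⟨π b, hint b⟩ (Subtype.ext ?_)
      show χ (θ (resO X (X.basicOpen_le f) a)) * π b = 1
      rw [hcomp, ← map_mul]
      exact (congrArg π hb).trans (map_one π)
  · obtain ⟨-, n₀, hn₀⟩ := exists_inv_pow hB K (ρ a) ha
    refine ⟨n₀, fun n hn => ?_⟩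
    obtain ⟨b, hbm, hb⟩ := hn₀ n hn
    obtain ⟨r, rfl⟩ := Ideal.Quotient.mk_surjective b
    refine ⟨r, fun hu => hbm (hu.map _), ?_⟩
    let P := RingHom.ker χ
    haveI : P.IsPrime := RingHom.ker_isPrime χ
    have hPq : P.under R = q := Ideal.ext fun x => by
      show χ (algebraMap R S x) = 0 ↔ x ∈ q
      rw [hχ, RingHom.comp_apply, map_eq_zero_iff _ (IsFractionRing.injective B K)]
      exact Ideal.Quotient.eq_zero_iff_mem
    rw [← hPq, IsLocalization.map_under (Submonoid.powers (X.presheaf.germ W z hzW f)) S P,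
      RingHom.mem_ker, map_sub, map_mul, map_pow, map_one, hχ, sub_eq_zero, mul_comm]
    exact hb

include hU hdim hzU hW hzW hgen hf in
/-- Poles at all branches over `z`. -/
theorem exists_valuations_point :
    ∃ (ι : Type u) (_ : Finite ι) (v : ι → Valuation Γ(X, U) ℤᵐ⁰), (∀ i, ∃ a, 1 < v i a) ∧
      ∀ a, (∀ i, 1 < v i a) → ∃ N : ℕ, 0 < N ∧ ∀ k : ℕ, 0 < k →
        ∃ (W' : X.Opens) (hle : W' ≤ W) (F : Γ(X, W')), z ∈ W' ∧ X.basicOpen F ≤ U ∧
          resO X (inf_le_left : W' ⊓ U ≤ W') F * resO X (inf_le_right : W' ⊓ U ≤ U) a ^ (N * k) = 1 := by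
  classical
  let R := X.presheaf.stalk z
  letI algA : Algebra Γ(X, W) R := X.presheaf.algebra_section_stalk (⟨z, hzW⟩ : W)
  haveI := hW.isLocalization_stalk ⟨z, hzW⟩
  haveI : IsNoetherianRing R := inferInstance
  let g : R := X.presheaf.germ W z hzW f
  obtain ⟨hgm, honly, hmin⟩ := germ_facts hdim hzU hW hzW hgen f hf
  let S := Localization.Away g
  haveI := hW.isLocalization_basicOpen f
  have hfu : IsUnit (((algebraMap R S).comp (X.presheaf.germ W z hzW).hom) f) :=
    IsLocalization.Away.algebraMap_isUnit (S := S) g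
  let θ : Γ(X, X.basicOpen f) →+* S := IsLocalization.Away.lift f hfu
  have hθ : ∀ a, θ (resO X (X.basicOpen_le f) a) = algebraMap R S (X.presheaf.germ W z hzW a) :=
    fun a => IsLocalization.Away.lift_eq f hfu a
  let Q := {q : Ideal R // q ∈ minimalPrimes R ∧ g ∉ q}
  haveI : Finite Q := ((minimalPrimes.finite_of_isNoetherianRing R).subset
    fun q (hq : q ∈ minimalPrimes R ∧ g ∉ q) => hq.1).to_subtype
  have hQ : ∀ q : Q, ∃ (ι : Type u) (_ : Finite ι) (v : ι → Valuation Γ(X, U) ℤᵐ⁰),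
      (∀ i, ∃ a, 1 < v i a) ∧ ∀ a, (∀ i, 1 < v i a) → ∃ n₀ : ℕ, ∀ n ≥ n₀, ∃ r ∈ maximalIdeal R,
        θ (resO X (hf.ge.trans inf_le_right) a) ^ n * algebraMap R S r - 1 ∈
          q.1.map (algebraMap R S) := fun q => by
    haveI := q.2.1.1.1
    exact exists_valuations hU hdim hzU hW hzW f hf S θ hθ q.1 q.2.2
  choose ι hι v hv hpow using hQ
  haveI := hι
  refine ⟨Σ q : Q, ι q, inferInstance, fun i => v i.1 i.2, fun i => hv i.1 i.2, fun a ha => ?_⟩
  choose n₀ hn₀ using fun q => hpow q a fun i => ha ⟨q, i⟩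
  haveI := Fintype.ofFinite Q
  let n₁ := Finset.univ.sup n₀ + 1
  let ρa := θ (resO X (hf.ge.trans inf_le_right) a)
  obtain ⟨n₂, hn₂⟩ := exists_inv_pow_mem g hgm honly hmin S (ρa ^ n₁) fun q hq hgq => by
    obtain ⟨r, hrm, hr⟩ := hn₀ ⟨q, hmin q hq hgq, hgq⟩ n₁
      ((Finset.le_sup (f := n₀) (Finset.mem_univ _)).trans (Nat.le_succ _))
    exact ⟨r, hrm, hr⟩
  obtain ⟨M₀, hM₀⟩ : ∃ M₀ : ℕ, maximalIdeal R ^ M₀ ≤ Ideal.span {g} := by
    refine Ideal.exists_pow_le_of_le_radical_of_fg ?_ (IsNoetherian.noetherian _)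
    rw [Ideal.radical_eq_sInf]
    refine le_sInf fun q ⟨hgq, hq⟩ => ?_
    exact ge_of_eq (honly q hq (hgq (Ideal.mem_span_singleton_self g)))
  obtain ⟨r, hrm, hr⟩ := hn₂ (n₂ + 1) (Nat.le_succ _)
  refine ⟨n₁ * (n₂ + 1) * (M₀ + 1), by positivity, fun k hk => ?_⟩
  let n := n₁ * (n₂ + 1) * (M₀ + 1) * k
  have hr' : algebraMap R S (r ^ ((M₀ + 1) * k)) * ρa ^ n = 1 := by
    rw [map_pow, show n = n₁ * (n₂ + 1) * ((M₀ + 1) * k) from mul_assoc _ _ _, pow_mul ρa (n₁ * (n₂ + 1)),
      pow_mul ρa n₁, ← mul_pow, hr, one_pow]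
  obtain ⟨r₀, hr₀⟩ : ∃ r₀, r₀ * g = r ^ ((M₀ + 1) * k) := Ideal.mem_span_singleton'.1
    (hM₀ (Ideal.pow_le_pow_right (by nlinarith) (Ideal.pow_mem_pow hrm ((M₀ + 1) * k))))
  let p := (hW.primeIdealOf ⟨z, hzW⟩).asIdeal
  obtain ⟨⟨c₀, s⟩, hcs₀⟩ := IsLocalization.surj p.primeCompl r₀
  obtain ⟨c, hc⟩ : ∃ c, c = f * c₀ := ⟨_, rfl⟩
  have hcs : r ^ ((M₀ + 1) * k) * algebraMap Γ(X, W) R s.1 = algebraMap Γ(X, W) R c := by
    rw [show algebraMap Γ(X, W) R c = g * algebraMap Γ(X, W) R c₀ from hc ▸ map_mul _ _ _, ← hr₀, ← hcs₀]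
    ring
  obtain ⟨m, a₁, ha₁⟩ := IsLocalization.Away.surj f (resO X (hf.ge.trans inf_le_right) a ^ n)
  replace ha₁ : resO X (hf.ge.trans inf_le_right) a ^ n * resO X (X.basicOpen_le f) f ^ m =
      resO X (X.basicOpen_le f) a₁ := ha₁
  have hkill : algebraMap R S (algebraMap Γ(X, W) R (c * a₁ - s.1 * f ^ m)) = 0 := by
    have e1 := congrArg θ ha₁
    rw [map_mul, map_pow, map_pow, hθ, hθ] at e1
    change ρa ^ n * algebraMap R S (algebraMap Γ(X, W) R f) ^ m =
      algebraMap R S (algebraMap Γ(X, W) R a₁) at e1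
    rw [map_sub, map_mul, map_mul, map_pow, map_sub, map_mul, map_mul, map_pow, ← e1, ← hcs, map_mul]
    linear_combination (algebraMap R S (algebraMap Γ(X, W) R s.1) *
      algebraMap R S (algebraMap Γ(X, W) R f) ^ m) * hr'
  obtain ⟨⟨_, l, rfl⟩, hl⟩ := (IsLocalization.map_eq_zero_iff (Submonoid.powers g) S _).1 hkill
  have hl' : algebraMap Γ(X, W) R (f ^ l * (c * a₁ - s.1 * f ^ m)) = 0 := by
    rw [map_mul, map_pow]; exact hl
  obtain ⟨e, he⟩ := (IsLocalization.map_eq_zero_iff p.primeCompl R _).1 hl'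
  let W' := X.basicOpen (s.1 * e.1)
  have hu := Groth.Agent.QC.isUnit_resO_basicOpen hW (s.1 * e.1)
  rw [map_mul] at hu
  have hsu := isUnit_of_mul_isUnit_left hu
  have heu := isUnit_of_mul_isUnit_right hu
  have hzW' : z ∈ W' := (mem_basicOpen_iff hW hzW _).2 (p.primeCompl.mul_mem s.2 e.2)
  refine ⟨W', X.basicOpen_le _, resO X (X.basicOpen_le _) c * hsu.unit⁻¹.val, hzW', ?_, ?_⟩
  · intro y hy
    rw [Scheme.basicOpen_mul, Scheme.basicOpen_res] at hy
    have hyc := hy.1.2
    rw [hc, Scheme.basicOpen_mul] at hyc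
    exact (hf.ge hyc.1).2
  · have hle : W' ⊓ U ≤ X.basicOpen f := fun y hy => hf.le ⟨X.basicOpen_le _ hy.1, hy.2⟩
    have hW'W : W' ⊓ U ≤ W := hle.trans (X.basicOpen_le f)
    have hfu' : IsUnit (resO X hW'W f) := by
      have := (Groth.Agent.QC.isUnit_resO_basicOpen hW f).map (resO X hle)
      rwa [resO_resO] at this
    have heu' : IsUnit (resO X hW'W e.1) := by
      have := heu.map (resO X (inf_le_left : W' ⊓ U ≤ W'))
      rwa [resO_resO] at this
    have e2 := congrArg (resO X hle) ha₁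
    rw [map_mul, map_pow, map_pow, resO_resO, resO_resO, resO_resO] at e2
    have e3 := congrArg (resO X hW'W) he
    rw [map_mul, map_mul, map_zero, map_pow, map_sub, map_mul, map_mul, map_pow] at e3
    have e4 : resO X hW'W c * resO X hW'W a₁ = resO X hW'W s.1 * resO X hW'W f ^ m :=
      sub_eq_zero.1 (((heu'.mul (hfu'.pow l))).mul_right_eq_zero.1 (by rw [mul_assoc]; exact e3))
    have e5 := congrArg (resO X (inf_le_left : W' ⊓ U ≤ W')) hsu.mul_val_inv
    rw [map_mul, map_one, resO_resO] at e5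
    refine (hfu'.pow m).mul_left_cancel ?_
    rw [map_mul, resO_resO, mul_one]
    change resO X hW'W f ^ m * (resO X hW'W c * _ * resO X (inf_le_right : W' ⊓ U ≤ U) a ^ n) = _
    linear_combination (resO X hW'W c * resO X (inf_le_left : W' ⊓ U ≤ W') hsu.unit⁻¹.val) * e2 +
      resO X (inf_le_left : W' ⊓ U ≤ W') hsu.unit⁻¹.val * e4 + resO X hW'W f ^ m * e5

end Groth.Agent.SepAffineGen
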